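import Groth.Agent.UnifModuli.BaseChange
import Groth.Agent.AlgSpLoc.Cover
import Groth.Agent.AlgSpLoc.Glue
import Groth.Agent.AlgSpc.FppfGlue

/-!
# Universality glues from flat affine test schemes
-/

set_option autoImplicit false
set_option linter.style.haveILetI false
set_option backward.isDefEq.respectTransparency false
set_option backward.isDefEq.respectTransparency.types false

universe u

open CategoryTheory CategoryTheory.Limits AlgebraicGeometry Opposite

namespace Groth.Agent.UnifModuli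

open _root_.AlgSp Groth.Agent.AlgSpc Groth.Agent.AlgSpLoc

variable {S : Scheme.{u}} {𝒳 : AlgSt.Cat S} {Y M' N : Sp S} {f : 𝒳 ⥤ᵇ AlgSt.ofSp Y} {g : M' ⟶ Y}

/-- A map out of a scheme over the base realises the family. -/
def Good (s : Fam f g N) (W : Over S) (q : (yon S).obj W ⟶ M') (χ : (yon S).obj W ⟶ N) : Prop :=
  ∀ (z : 𝒳.obj) (l : (yon S).obj (𝒳.p.obj z) ⟶ (yon S).obj W) (h : (l ≫ q) ≫ g = osec f z),
    l ≫ χ = s.s z (l ≫ q) h

theorem Good.restrict {s : Fam f g N} {W W' : Over S} {q : (yon S).obj W ⟶ M'}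
    {χ : (yon S).obj W ⟶ N} (H : Good s W q χ) (w : W' ⟶ W) :
    Good s W' ((yon S).map w ≫ q) ((yon S).map w ≫ χ) := fun z l h => by
  rw [← Category.assoc, H z (l ≫ (yon S).map w) (by simpa using h)]
  exact s.congr f g (Category.assoc _ _ _) _ _

variable (f g) in
/-- All flat affine test schemes over the target are universal. -/
def AffUniv : Prop :=
  ∀ (Z : Over S), IsAffine Z.left → ∀ (e : (yon S).obj Z ⟶ M'), RepWith @Etale e → Univ f (e ≫ g)

theorem existsUnique_good_affine (H : AffUniv f g) (hN : IsAlgSpace N) (s : Fam f g N) {Z : Over S}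
    (hZ : IsAffine Z.left) {e : (yon S).obj Z ⟶ M'} (he : RepWith @Etale e) :
    ∃! χ, Good s Z e χ := by
  let t : Fam f (e ≫ g) N :=
    { s := fun z l h => s.s z (l ≫ e) (by rw [Category.assoc]; exact h)
      nat := fun {a b} φ l h h' => by
        rw [← s.nat φ (l ≫ e) (by rw [Category.assoc]; exact h) (by simpa using h')]
        exact s.congr f g (Category.assoc _ _ _) _ _ }
  obtain ⟨χ, hχ, hu⟩ := H Z hZ e he N hN t
  exact ⟨χ, fun z l h => hχ z l (by rw [← Category.assoc]; exact h),
    fun χ' h' => hu χ' fun z l h => h' z l _⟩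

theorem good_unique (H : AffUniv f g) (hN : IsAlgSpace N) (s : Fam f g N) {W : Over S}
    {q : (yon S).obj W ⟶ M'} (hq : RepWith @Etale q) {χ χ' : (yon S).obj W ⟶ N}
    (h : Good s W q χ) (h' : Good s W q χ') : χ = χ' := by
  let 𝒰 := W.left.affineCover
  let Z : 𝒰.I₀ → Over S := fun k => Over.mk (𝒰.f k ≫ W.hom)
  let u : ∀ k, Z k ⟶ W := fun k => Over.homMk (𝒰.f k) rfl
  refine hom_ext_of_openCover Z u (fun k => inferInstanceAs (IsOpenImmersion (𝒰.f k)))
    (fun t => ⟨_, 𝒰.covers t⟩) fun k => ?_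
  have hk : RepWith @Etale ((yon S).map (u k) ≫ q) :=
    repWith_comp ((repWith_yon_map_iff _ _).2 (inferInstanceAs (Etale (𝒰.f k)))) hq
  exact (existsUnique_good_affine H hN s (inferInstanceAs (IsAffine (𝒰.X k))) hk).unique
    (h.restrict (u k)) (h'.restrict (u k))

theorem exists_good (h𝒳 : FibCat.IsFibGrpd 𝒳.p) (H : AffUniv f g) (hN : IsAlgSpace N) (s : Fam f g N)
    {W : Over S} {q : (yon S).obj W ⟶ M'} (hq : RepWith @Etale q) : ∃ χ, Good s W q χ := by
  let 𝒰 := W.left.affineCover
  let Z : 𝒰.I₀ → Over S := fun k => Over.mk (𝒰.f k ≫ W.hom)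
  let u : ∀ k, Z k ⟶ W := fun k => Over.homMk (𝒰.f k) rfl
  have hu : ∀ k, IsOpenImmersion (u k).left := fun k => inferInstanceAs (IsOpenImmersion (𝒰.f k))
  have hk : ∀ k, RepWith @Etale ((yon S).map (u k) ≫ q) := fun k =>
    repWith_comp ((repWith_yon_map_iff _ _).2 (inferInstanceAs (Etale (𝒰.f k)))) hq
  choose x hx using fun k =>
    (existsUnique_good_affine H hN s (inferInstanceAs (IsAffine (𝒰.X k))) (hk k)).exists
  have hs : ∀ t : W.left, ∃ k, t ∈ Set.range (u k).left := fun t => ⟨_, 𝒰.covers t⟩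
  obtain ⟨χ, hχ, -⟩ := existsUnique_glue Z u hu hs x fun k k' T a b w => by
    have sq := IsPullback.of_hasPullback (u k) (u k')
    haveI := hu k'
    haveI : Etale (pullback.fst (u k) (u k')).left :=
      MorphismProperty.of_isPullback (P := @Etale) (FppfDescent.isPullback_forget sq).flip
        (inferInstanceAs (Etale (𝒰.f k')))
    have hP : RepWith @Etale ((yon S).map (pullback.fst (u k) (u k')) ≫ (yon S).map (u k) ≫ q) :=
      repWith_comp ((repWith_yon_map_iff _ _).2 inferInstance) (hk k)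
    have he : (yon S).map (pullback.fst (u k) (u k')) ≫ x k =
        (yon S).map (pullback.snd (u k) (u k')) ≫ x k' := by
      refine good_unique H hN s hP ((hx k).restrict _) ?_
      have := (hx k').restrict (pullback.snd (u k) (u k'))
      rwa [← Functor.map_comp_assoc, ← sq.w, Functor.map_comp_assoc] at this
    rw [← pullback.lift_fst a b w, Functor.map_comp, Category.assoc, he, ← Functor.map_comp_assoc]
    congr 2
    exact pullback.lift_snd a b w
  refine ⟨χ, fun z l h => ?_⟩
  obtain ⟨l₀, rfl⟩ : ∃ l₀, (yon S).map l₀ = l := ⟨_, map_pre l⟩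
  let V : 𝒰.I₀ → Over S := fun k => pullback l₀ (u k)
  have hv : ∀ k, IsOpenImmersion (pullback.fst l₀ (u k)).left := fun k =>
    haveI := hu k
    MorphismProperty.of_isPullback (P := @IsOpenImmersion)
      (FppfDescent.isPullback_forget (IsPullback.of_hasPullback l₀ (u k))).flip (hu k)
  refine hom_ext_of_openCover V (fun k => pullback.fst l₀ (u k)) hv (fun t => ?_) fun k => ?_
  · obtain ⟨k, y, hy⟩ := hs (l₀.left t)
    obtain ⟨v, hv', -⟩ := Scheme.Pullback.exists_preimage_pullback (f := l₀.left) (g := (u k).left) t y hy.symm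
    have sq2 := FppfDescent.isPullback_forget (IsPullback.of_hasPullback l₀ (u k))
    refine ⟨k, sq2.isoPullback.inv v, ?_⟩
    rw [← Scheme.Hom.comp_apply, sq2.isoPullback_inv_fst]
    exact hv'
  · obtain ⟨z', φ, hφ⟩ := h𝒳.exists_lift (x := z) (pullback.fst l₀ (u k))
    haveI := hφ
    have hd : 𝒳.p.obj z' = V k := IsHomLift.domain_eq 𝒳.p (pullback.fst l₀ (u k)) φ
    have hp : 𝒳.p.map φ = eqToHom hd ≫ pullback.fst l₀ (u k) := by
      rw [IsHomLift.fac' 𝒳.p (pullback.fst l₀ (u k)) φ]
      simp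
    have hh : ∀ (v : (yon S).obj (𝒳.p.obj z) ⟶ N),
        (yon S).map (eqToHom hd) ≫ (yon S).map (pullback.fst l₀ (u k)) ≫ v = (yon S).map (𝒳.p.map φ) ≫ v :=
      fun v => by rw [← Functor.map_comp_assoc, hp]
    rw [← cancel_epi ((yon S).map (eqToHom hd)), hh, hh,
      ← s.nat φ ((yon S).map l₀ ≫ q) h (by rw [Category.assoc, h]; exact osec_natural f φ)]
    have e : (yon S).map (𝒳.p.map φ) ≫ (yon S).map l₀ =
        (yon S).map (eqToHom hd ≫ pullback.snd l₀ (u k)) ≫ (yon S).map (u k) := by
      rw [← Functor.map_comp, ← Functor.map_comp, hp, Category.assoc, Category.assoc, pullback.condition]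
    refine (Category.assoc _ _ _).symm.trans ((congrArg (fun v => v ≫ χ) e).trans ?_)
    rw [Category.assoc, hχ k, hx k z' _ (by
      rw [← Category.assoc _ ((yon S).map (u k)) q, ← e, Category.assoc, Category.assoc,
        ← Category.assoc ((yon S).map l₀), h]
      exact osec_natural f φ)]
    exact s.congr f g (by rw [← Category.assoc, ← e, Category.assoc]) _ _

/-- Universality on flat affines gives universality on the whole algebraic space. -/
theorem univ_of_affUniv (h𝒳 : FibCat.IsFibGrpd 𝒳.p) (hM : IsAlgSpace M') (H : AffUniv f g) : Univ f g := by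
  intro N hN s
  obtain ⟨U, a, ha, has⟩ := hM.atlas
  obtain ⟨χU, hU⟩ := exists_good h𝒳 H hN s ha
  obtain ⟨R, p₀, r, sq⟩ := exists_sq ha.1 a
  let p : R ⟶ U := pre p₀
  have hw : (yon S).map p ≫ a = (yon S).map r ≫ a := by rw [map_pre]; exact sq.w
  haveI : Etale r.left := ha.2 a p₀ r sq
  have hR : RepWith @Etale ((yon S).map r ≫ a) :=
    repWith_comp ((repWith_yon_map_iff _ _).2 inferInstance) ha
  have hpr : (yon S).map p ≫ χU = (yon S).map r ≫ χU := by
    refine good_unique H hN s hR ?_ (hU.restrict r)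
    have := hU.restrict p
    rwa [hw] at this
  obtain ⟨χ, hχ⟩ := exists_desc_of_atlas ha has χU fun T b b' w => by
    let n : T ⟶ R := pre (sq.lift _ _ w)
    have h₁ : n ≫ p = b := (yon S).map_injective (by simp [n, p])
    have h₂ : n ≫ r = b' := (yon S).map_injective (by simp [n])
    rw [← h₁, ← h₂, Functor.map_comp, Functor.map_comp, Category.assoc, Category.assoc, hpr]
  haveI := epi_of_repWith ha has
  refine ⟨χ, fun z l h => ?_, fun χ' h' => ?_⟩
  · obtain ⟨T, t₀, c, sqc⟩ := exists_sq ha.1 l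
    haveI : Etale c.left := ha.2 l t₀ c sqc
    haveI : Surjective c.left := has.2 l t₀ c sqc
    haveI := WNA.isLocallySurjective_yon_map c
    haveI : Epi ((yon S).map c) := inferInstance
    obtain ⟨z', φ, hφ⟩ := h𝒳.exists_lift (x := z) c
    haveI := hφ
    have hd : 𝒳.p.obj z' = T := IsHomLift.domain_eq 𝒳.p c φ
    have hp : 𝒳.p.map φ = eqToHom hd ≫ c := by
      rw [IsHomLift.fac' 𝒳.p c φ]
      simp
    rw [← cancel_epi ((yon S).map (eqToHom hd) ≫ (yon S).map c), ← Functor.map_comp, ← hp,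
      ← s.nat φ l h (by rw [Category.assoc, h]; exact osec_natural f φ)]
    have e : (yon S).map (𝒳.p.map φ) ≫ l = ((yon S).map (eqToHom hd) ≫ t₀) ≫ a := by
      rw [hp, Functor.map_comp, Category.assoc, Category.assoc, sqc.w]
    refine (Category.assoc _ _ _).symm.trans ((congrArg (fun v => v ≫ χ) e).trans ?_)
    rw [Category.assoc, hχ, hU z' _ (by rw [← e, Category.assoc, h]; exact osec_natural f φ)]
    exact s.congr f g e.symm _ _
  · have hG : Good s U a (a ≫ χ') := fun z l h => by
      rw [← Category.assoc]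
      exact h' z (l ≫ a) h
    rw [← cancel_epi a, hχ]
    exact good_unique H hN s ha hG hU

end Groth.Agent.UnifModuli
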