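import Groth.Agent.UnifModuli.Sec
import Groth.Agent.Fib.Fp

/-!
# Categorical moduli spaces after base change, in terms of sections
-/

set_option autoImplicit false
set_option linter.style.haveILetI false
set_option backward.isDefEq.respectTransparency false
set_option backward.isDefEq.respectTransparency.types false

universe v w u

open CategoryTheory CategoryTheory.Limits AlgebraicGeometry Opposite

namespace Groth.Agent.UnifModuli

open _root_.AlgSp Groth.Agent.RedModuli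

variable {S : Scheme.{u}} {𝒳 : AlgSt.Cat S} {Y M' : Sp S} (f : 𝒳 ⥤ᵇ AlgSt.ofSp Y) (g : M' ⟶ Y)

/-- The object of the base change given by an object and a lift of its section. -/
noncomputable def mkObj (z : 𝒳.obj) (l : (yon S).obj (𝒳.p.obj z) ⟶ M') (h : l ≫ g = osec f z) :
    (FibCat.fp (AlgSt.ofSpMap g) f).obj :=
  have e : (AlgSt.ofSpMap g).obj (⟨𝒳.p.obj z, (_root_.AlgSp.J S).uliftYonedaEquiv l⟩ : Stk.EltObj M'.obj)
      = f.obj z :=
    obj_ext (f.w_obj z).symm (by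
      change osec f z = _
      rw [← h]
      apply ((_root_.AlgSp.J S).uliftYonedaEquiv).injective
      rw [GrothendieckTopology.uliftYonedaEquiv_comp]
      exact (Equiv.apply_symm_apply _ _).symm)
  ⟨{ fst := (⟨𝒳.p.obj z, (_root_.AlgSp.J S).uliftYonedaEquiv l⟩ : Stk.EltObj M'.obj)
     snd := z
     iso := eqToIso e },
   IsHomLift.of_fac' _ _ _ rfl (f.w_obj z) (by
     change (eqToHom e).hom = _
     simp [AlgStB.eqToHom_hom])⟩

theorem osec_fst_mkObj (z : 𝒳.obj) (l : (yon S).obj (𝒳.p.obj z) ⟶ M') (h : l ≫ g = osec f z) :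
    osec (FibCat.fpFst (AlgSt.ofSpMap g) f) (mkObj f g z l h) = l := by
  change (yon S).map (eqToHom rfl) ≫
    secMap (⟨𝒳.p.obj z, (_root_.AlgSp.J S).uliftYonedaEquiv l⟩ : Stk.EltObj M'.obj) = l
  rw [eqToHom_refl, CategoryTheory.Functor.map_id, Category.id_comp, secMap_mk]

theorem mkObj_iso_hom_hom (z : 𝒳.obj) (l : (yon S).obj (𝒳.p.obj z) ⟶ M') (h : l ≫ g = osec f z) :
    (mkObj f g z l h).obj.iso.hom.hom = eqToHom (f.w_obj z).symm :=
  by
  simp only [mkObj, eqToIso.hom]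
  exact AlgStB.eqToHom_hom _

/-- The transported section of the first component. -/
theorem exists_hom_mkObj (w : (FibCat.fp (AlgSt.ofSpMap g) f).obj) :
    ∃ (l : (yon S).obj (𝒳.p.obj w.obj.snd) ⟶ M') (h : l ≫ g = osec f w.obj.snd)
      (m : mkObj f g w.obj.snd l h ⟶ w), IsIso ((FibCat.fp (AlgSt.ofSpMap g) f).p.map m) := by
  obtain ⟨⟨a, x, α⟩, hα⟩ := w
  have hx : 𝒳.p.obj x = a.base := (FibCat.fpSnd (AlgSt.ofSpMap g) f).w_obj ⟨⟨a, x, α⟩, hα⟩
  haveI : (AlgSt.ofSp Y).p.IsHomLift (𝟙 a.base) α.hom := hα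
  have hb : α.hom.hom = eqToHom (hx.symm.trans (f.w_obj x).symm) :=
    (@IsHomLift.fac' _ _ _ _ (AlgSt.ofSp Y).p _ _ _ _ (𝟙 a.base) α.hom hα).trans (by simp)
  have hα' := secMap_comp α.hom
  rw [hb] at hα'
  have hg : secMap ((AlgSt.ofSpMap g).obj a) = secMap a ≫ g := by
    apply ((_root_.AlgSp.J S).uliftYonedaEquiv).injective
    rw [GrothendieckTopology.uliftYonedaEquiv_comp]
    exact (Equiv.apply_symm_apply _ _).trans (congrArg _ (Equiv.apply_symm_apply _ _).symm)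
  have h : ((yon S).map (eqToHom hx) ≫ secMap a) ≫ g = osec f x := by
    rw [Category.assoc, ← hg, ← hα', ← Functor.map_comp_assoc, osec]
    simp
  refine ⟨_, h, Fib.fpHomMk ⟨eqToHom hx, ?_⟩ (𝟙 x) ?_, ?_⟩
  · change M'.obj.map (eqToHom hx).op a.sec =
      (_root_.AlgSp.J S).uliftYonedaEquiv ((yon S).map (eqToHom hx) ≫ secMap a)
    rw [AlgSpLimit.equiv_map]
    exact congrArg _ (Equiv.apply_symm_apply _ _).symm
  · apply Stk.EltObj.hom_ext
    change eqToHom hx ≫ α.hom.hom = (mkObj f g x _ h).obj.iso.hom.hom ≫ (f.map (𝟙 x)).hom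
    rw [hb, mkObj_iso_hom_hom, f.toFunctor.map_id]
    simp
    rfl
  · change IsIso (eqToHom hx)
    infer_instance

theorem nonempty_iso_of_mkObj {N : Sp S} {φ φ' : FibCat.fp (AlgSt.ofSpMap g) f ⥤ᵇ AlgSt.ofSp N}
    (h : ∀ (z : 𝒳.obj) (l : (yon S).obj (𝒳.p.obj z) ⟶ M') (hl : l ≫ g = osec f z),
      osec φ (mkObj f g z l hl) = osec φ' (mkObj f g z l hl)) : Nonempty (φ ≅ φ') := by
  refine nonempty_iso_of_osec fun w => ?_
  obtain ⟨l, hl, m, hm⟩ := exists_hom_mkObj f g w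
  rw [← cancel_epi ((yon S).map ((FibCat.fp (AlgSt.ofSpMap g) f).p.map m)), osec_natural, osec_natural]
  exact h _ l hl

/-- A compatible family of sections on the base change. -/
structure Fam (N : Sp S) where
  /-- the sections -/
  s : ∀ (z : 𝒳.obj) (l : (yon S).obj (𝒳.p.obj z) ⟶ M'), l ≫ g = osec f z →
    ((yon S).obj (𝒳.p.obj z) ⟶ N)
  nat : ∀ {a b : 𝒳.obj} (φ : a ⟶ b) (l : (yon S).obj (𝒳.p.obj b) ⟶ M') (h : l ≫ g = osec f b)
    (h' : ((yon S).map (𝒳.p.map φ) ≫ l) ≫ g = osec f a),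
    s a ((yon S).map (𝒳.p.map φ) ≫ l) h' = (yon S).map (𝒳.p.map φ) ≫ s b l h

/-- Every compatible family factors uniquely. -/
def Univ : Prop :=
  ∀ (N : Sp S), IsAlgSpace N → ∀ s : Fam f g N, ∃! χ : M' ⟶ N,
    ∀ (z : 𝒳.obj) (l : (yon S).obj (𝒳.p.obj z) ⟶ M') (h : l ≫ g = osec f z), l ≫ χ = s.s z l h

theorem Fam.congr {N : Sp S} (s : Fam f g N) {z : 𝒳.obj} {l l' : (yon S).obj (𝒳.p.obj z) ⟶ M'}
    (e : l = l') (h : l ≫ g = osec f z) (h' : l' ≫ g = osec f z) : s.s z l h = s.s z l' h' := by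
  subst e
  rfl

theorem iso_iff {N : Sp S} (φ : FibCat.fp (AlgSt.ofSpMap g) f ⥤ᵇ AlgSt.ofSp N) (χ : M' ⟶ N) :
    Nonempty (BasedFunctor.comp (FibCat.fpFst (AlgSt.ofSpMap g) f) (AlgSt.ofSpMap χ) ≅ φ) ↔
      ∀ (z : 𝒳.obj) (l : (yon S).obj (𝒳.p.obj z) ⟶ M') (h : l ≫ g = osec f z),
        l ≫ χ = osec φ (mkObj f g z l h) := by
  constructor
  · rintro ⟨e⟩ z l h
    rw [← osec_congr e, osec_comp_ofSpMap, osec_fst_mkObj]
  · intro h
    refine nonempty_iso_of_mkObj f g fun z l hl => ?_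
    rw [osec_comp_ofSpMap, osec_fst_mkObj]
    exact h z l hl

theorem univ_of_isCatModuli (H : AlgSt.IsCatModuli (FibCat.fpFst (AlgSt.ofSpMap g) f)) : Univ f g := by
  intro N hN s
  have hsnd : ∀ w : (FibCat.fp (AlgSt.ofSpMap g) f).obj,
      𝒳.p.obj w.obj.snd = (FibCat.fp (AlgSt.ofSpMap g) f).p.obj w :=
    fun w => (FibCat.fpSnd (AlgSt.ofSpMap g) f).w_obj w
  let L : ∀ w : (FibCat.fp (AlgSt.ofSpMap g) f).obj, (yon S).obj (𝒳.p.obj w.obj.snd) ⟶ M' := fun w =>
    (yon S).map (eqToHom (hsnd w)) ≫ osec (FibCat.fpFst (AlgSt.ofSpMap g) f) w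
  have hp : ∀ {a b : (FibCat.fp (AlgSt.ofSpMap g) f).obj} (φ : a ⟶ b),
      𝒳.p.map φ.hom.snd ≫ eqToHom (hsnd b) =
        eqToHom (hsnd a) ≫ (FibCat.fp (AlgSt.ofSpMap g) f).p.map φ := fun {a b} φ => by
    have := Fib.w_map (FibCat.fpSnd (AlgSt.ofSpMap g) f) φ
    change 𝒳.p.map φ.hom.snd = _ at this
    rw [this]
    simp
  have hL : ∀ w, L w ≫ g = osec f w.obj.snd := fun w => by
    obtain ⟨l, hl, m, hm⟩ := exists_hom_mkObj f g w
    have h1 := osec_natural (FibCat.fpFst (AlgSt.ofSpMap g) f) m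
    rw [osec_fst_mkObj] at h1
    have h2 := hp m
    have h3 := osec_natural f m.hom.snd
    haveI : IsIso (𝒳.p.map m.hom.snd) := by
      have : IsIso (𝒳.p.map m.hom.snd ≫ eqToHom (hsnd w)) := by rw [h2]; infer_instance
      exact IsIso.of_isIso_comp_right _ (eqToHom (hsnd w))
    rw [← cancel_epi ((yon S).map (𝒳.p.map m.hom.snd)), h3]
    have h4 : (yon S).map (𝒳.p.map m.hom.snd) ≫ L w = l := by
      simp only [L]
      rw [← Functor.map_comp_assoc, h2, Functor.map_comp, Category.assoc, h1]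
      simp
    rw [← Category.assoc, h4]
    exact hl
  obtain ⟨φ, hφ⟩ := exists_functor (𝒵 := FibCat.fp (AlgSt.ofSpMap g) f)
    (fun w => (yon S).map (eqToHom (hsnd w).symm) ≫ s.s w.obj.snd (L w) (hL w)) (fun {a b} φ => by
      have e : (yon S).map (𝒳.p.map φ.hom.snd) ≫ L b = L a := by
        simp only [L]
        rw [← Functor.map_comp_assoc, hp φ, Functor.map_comp, Category.assoc, osec_natural]
      have h := s.nat φ.hom.snd (L b) (hL b) (by rw [e]; exact hL a)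
      rw [s.congr f g e _ (hL a)] at h
      rw [h, ← Functor.map_comp_assoc, ← Functor.map_comp_assoc]
      congr 2
      rw [← cancel_mono (eqToHom (hsnd b)), Category.assoc, Category.assoc, eqToHom_trans, hp φ]
      simp)
  obtain ⟨χ, hχ, hu⟩ := H.2 N hN φ
  have hmk : ∀ (z : 𝒳.obj) (l : (yon S).obj (𝒳.p.obj z) ⟶ M') (h : l ≫ g = osec f z),
      osec φ (mkObj f g z l h) = s.s z l h := fun z l h => by
    rw [hφ]
    have e : L (mkObj f g z l h) = l := by
      simp only [L]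
      rw [osec_fst_mkObj]
      simp [mkObj]
    rw [s.congr f g e _ h]
    simp [mkObj]
  exact ⟨χ, fun z l h => ((iso_iff f g φ χ).1 hχ z l h).trans (hmk z l h),
    fun χ' h' => hu χ' ((iso_iff f g φ χ').2 fun z l h => (h' z l h).trans (hmk z l h).symm)⟩

theorem isCatModuli_of_univ (hM : IsAlgSpace M') (H : Univ f g) :
    AlgSt.IsCatModuli (FibCat.fpFst (AlgSt.ofSpMap g) f) := by
  refine ⟨hM, fun N hN φ => ?_⟩
  let s : Fam f g N :=
    { s := fun z l h => osec φ (mkObj f g z l h)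
      nat := fun {a b} ψ l h h' => by
        let m : mkObj f g a ((yon S).map (𝒳.p.map ψ) ≫ l) h' ⟶ mkObj f g b l h :=
          Fib.fpHomMk ⟨𝒳.p.map ψ, (AlgSpLimit.equiv_map _ _).symm⟩ ψ (by
            apply Stk.EltObj.hom_ext
            have h₁ : (f.map ψ).hom = _ := Fib.w_map f ψ
            change 𝒳.p.map ψ ≫ (mkObj f g b l h).obj.iso.hom.hom =
              (mkObj f g a _ h').obj.iso.hom.hom ≫ (f.map ψ).hom
            rw [h₁, mkObj_iso_hom_hom, mkObj_iso_hom_hom]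
            simp)
        exact (osec_natural φ m).symm }
  obtain ⟨χ, hχ, hu⟩ := H N hN s
  exact ⟨χ, (iso_iff f g φ χ).2 hχ, fun χ' h => hu χ' ((iso_iff f g φ χ').1 h)⟩

/-- Universality for the identity gives the moduli property itself. -/
theorem isCatModuli_of_univ_id (hY : IsAlgSpace Y) (H : Univ f (𝟙 Y)) : AlgSt.IsCatModuli f := by
  refine ⟨hY, fun N hN φ => ?_⟩
  let s : Fam f (𝟙 Y) N :=
    { s := fun z _ _ => osec φ z
      nat := fun {a b} ψ _ _ _ => (osec_natural φ ψ).symm }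
  obtain ⟨χ, hχ, hu⟩ := H N hN s
  refine ⟨χ, nonempty_iso_of_osec fun z => ?_, fun χ' ⟨e⟩ => hu χ' fun z l h => ?_⟩
  · rw [osec_comp_ofSpMap]
    exact hχ z _ (Category.comp_id _)
  · have h' : l = osec f z := by simpa using h
    subst h'
    rw [← osec_comp_ofSpMap, osec_congr e]

end Groth.Agent.UnifModuli
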