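import Groth.Agent.RedModuli.Basic

/-!
# Functors to spaces as families of sections, and categorical moduli of base changes
-/

set_option autoImplicit false
set_option linter.style.haveILetI false
set_option backward.isDefEq.respectTransparency false
set_option backward.isDefEq.respectTransparency.types false

universe v w u

open CategoryTheory CategoryTheory.Limits AlgebraicGeometry Opposite

namespace Groth.Agent.UnifModuli

open _root_.AlgSp Groth.Agent.RedModuli

variable {S : Scheme.{u}} {𝒵 : BasedCategory.{v, w} (Over S)} {M N : Sp S}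

/-- The map of sheaves of the image of an object. -/
noncomputable def osec (π : 𝒵 ⥤ᵇ AlgSt.ofSp M) (z : 𝒵.obj) : (yon S).obj (𝒵.p.obj z) ⟶ M :=
  (yon S).map (eqToHom (π.w_obj z).symm) ≫ secMap (π.obj z)

theorem obj_ext {a b : (AlgSt.ofSp M).obj} (h : a.base = b.base)
    (hs : (yon S).map (eqToHom h) ≫ secMap b = secMap a) : a = b := by
  obtain ⟨A, s⟩ := a
  obtain ⟨B, t⟩ := b
  obtain rfl : A = B := h
  have h2 : secMap (⟨A, t⟩ : (AlgSt.ofSp M).obj) = secMap (⟨A, s⟩ : (AlgSt.ofSp M).obj) := by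
    simpa using hs
  have h3 : t = s := ((_root_.AlgSp.J S).uliftYonedaEquiv).symm.injective h2
  rw [h3]

theorem secMap_mk (T : Over S) (l : (yon S).obj T ⟶ M) :
    secMap (⟨T, (_root_.AlgSp.J S).uliftYonedaEquiv l⟩ : Stk.EltObj M.obj) = l :=
  Equiv.symm_apply_apply _ _

theorem osec_natural (π : 𝒵 ⥤ᵇ AlgSt.ofSp M) {a b : 𝒵.obj} (φ : a ⟶ b) :
    (yon S).map (𝒵.p.map φ) ≫ osec π b = osec π a := by
  have h : (π.map φ).hom = eqToHom (π.w_obj a) ≫ 𝒵.p.map φ ≫ eqToHom (π.w_obj b).symm :=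
    Fib.w_map π φ
  have h2 := secMap_comp (π.map φ)
  rw [h, Functor.map_comp, Functor.map_comp, Category.assoc, Category.assoc] at h2
  change (yon S).map (𝒵.p.map φ) ≫ (yon S).map (eqToHom _) ≫ secMap (π.obj b) =
    (yon S).map (eqToHom _) ≫ secMap (π.obj a)
  rw [← h2, eqToHom_map, eqToHom_map, eqToHom_map, eqToHom_trans_assoc, eqToHom_refl, Category.id_comp]

theorem osec_comp_ofSpMap (π : 𝒵 ⥤ᵇ AlgSt.ofSp M) (g : M ⟶ N) (z : 𝒵.obj) :
    osec (BasedFunctor.comp π (AlgSt.ofSpMap g)) z = osec π z ≫ g := by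
  have h : secMap ((AlgSt.ofSpMap g).obj (π.obj z)) = secMap (π.obj z) ≫ g := by
    apply ((_root_.AlgSp.J S).uliftYonedaEquiv).injective
    rw [GrothendieckTopology.uliftYonedaEquiv_comp]
    exact (Equiv.apply_symm_apply _ _).trans (congrArg _ (Equiv.apply_symm_apply _ _).symm)
  change (yon S).map (eqToHom _) ≫ secMap ((AlgSt.ofSpMap g).obj (π.obj z)) = _
  rw [h]
  exact (Category.assoc _ _ _).symm

theorem osec_congr {π π' : 𝒵 ⥤ᵇ AlgSt.ofSp M} (e : π ≅ π') (z : 𝒵.obj) :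
    osec π z = osec π' z := by
  haveI := Fib.appIso_isHomLift e z
  have h : ((Fib.appIso e z).hom).hom = eqToHom (π.w_obj z) ≫ eqToHom (π'.w_obj z).symm :=
    (@IsHomLift.fac' _ _ _ _ (AlgSt.ofSp M).p _ _ _ _ (𝟙 (𝒵.p.obj z)) (Fib.appIso e z).hom this).trans
      (by simp)
  have h2 := secMap_comp (Fib.appIso e z).hom
  rw [h, Functor.map_comp, Category.assoc] at h2
  rw [osec, ← h2, eqToHom_map, eqToHom_map, eqToHom_map, eqToHom_trans_assoc, eqToHom_refl,
    Category.id_comp, osec, eqToHom_map]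

theorem nonempty_iso_of_osec {π π' : 𝒵 ⥤ᵇ AlgSt.ofSp M} (h : ∀ z, osec π z = osec π' z) :
    Nonempty (π ≅ π') := by
  have hobj : ∀ z, π.obj z = π'.obj z := fun z =>
    obj_ext ((π.w_obj z).trans (π'.w_obj z).symm) (by
      have h' := h z
      simp only [osec, eqToHom_map] at h'
      rw [eqToHom_map]
      rw [← eqToHom_trans ((congrArg (yon S).obj (π.w_obj z))) (congrArg (yon S).obj (π'.w_obj z).symm),
        Category.assoc, ← h', eqToHom_trans_assoc, eqToHom_refl, Category.id_comp])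
  exact ⟨Fib.isoMk (fun z => eqToIso (hobj z)) (fun {a b} φ => by
      apply Stk.EltObj.hom_ext
      have h₁ : (π.map φ).hom = _ := Fib.w_map π φ
      have h₂ : (π'.map φ).hom = _ := Fib.w_map π' φ
      change (π.map φ).hom ≫ (eqToHom (hobj b)).hom = (eqToHom (hobj a)).hom ≫ (π'.map φ).hom
      rw [h₁, h₂, AlgStB.eqToHom_hom, AlgStB.eqToHom_hom]
      simp)
    (fun z => IsHomLift.of_fac' _ _ _ (π.w_obj z) (π'.w_obj z) (by
      change (eqToHom (hobj z)).hom = _
      simp [AlgStB.eqToHom_hom]))⟩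

theorem exists_functor (s : ∀ z : 𝒵.obj, (yon S).obj (𝒵.p.obj z) ⟶ M)
    (hs : ∀ {a b : 𝒵.obj} (φ : a ⟶ b), (yon S).map (𝒵.p.map φ) ≫ s b = s a) :
    ∃ π : 𝒵 ⥤ᵇ AlgSt.ofSp M, ∀ z, osec π z = s z := by
  let F : 𝒵.obj ⥤ (AlgSt.ofSp M).obj :=
    { obj := fun z => (⟨𝒵.p.obj z, (_root_.AlgSp.J S).uliftYonedaEquiv (s z)⟩ : Stk.EltObj M.obj)
      map := fun {a b} φ => ⟨𝒵.p.map φ, by
        change M.obj.map _ ((_root_.AlgSp.J S).uliftYonedaEquiv (s b)) =
          (_root_.AlgSp.J S).uliftYonedaEquiv (s a)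
        rw [← hs φ]
        exact (AlgSpLimit.equiv_map _ _).symm⟩
      map_id := fun z => Stk.EltObj.hom_ext (𝒵.p.map_id z)
      map_comp := fun φ ψ => Stk.EltObj.hom_ext (𝒵.p.map_comp φ ψ) }
  refine ⟨⟨F, rfl⟩, fun z => ?_⟩
  change (yon S).map (eqToHom rfl) ≫ secMap (F.obj z) = s z
  rw [eqToHom_refl, CategoryTheory.Functor.map_id, Category.id_comp]
  exact secMap_mk _ _

end Groth.Agent.UnifModuli
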